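import Groth.Prelude.Def_Red2
import Groth.Prelude.Def_GmPts

/-!
Points of `Red.Ga S` over `T` are global functions on `T`, additively.
-/

universe u

open CategoryTheory CategoryTheory.Limits MonoidalCategory CartesianMonoidalCategory MonObj AlgebraicGeometry Opposite

namespace GrothLib.RedPts

noncomputable section

attribute [-instance] ULift.module

/-- The coordinate ring of the additive group. -/
abbrev GaCoord : Type u := SymmetricAlgebra (ULift.{u} ℤ) (ULift.{u} ℤ)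

/-- The generator of the coordinate ring. -/
abbrev gaGen : GaCoord.{u} := SymmetricAlgebra.ι (ULift.{u} ℤ) (ULift.{u} ℤ) (ULift.up 1)

abbrev gaIso : Γ(Spec (CommRingCat.of GaCoord.{u}), ⊤) ≅ CommRingCat.of GaCoord.{u} :=
  Scheme.ΓSpecIso (CommRingCat.of GaCoord.{u})

variable {S : Scheme.{u}} {T T' : Over S}

/-- The component to the coordinate scheme of a point. -/
abbrev gaSpecPt (x : T ⟶ Red.Ga S) : T.left ⟶ Spec (CommRingCat.of GaCoord.{u}) :=
  x.left ≫ pullback.fst Red.GaZ.hom (GmPts.toBaseZ S)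

/-- The ring map classified by a point. -/
def gaRingHom (x : T ⟶ Red.Ga S) : GaCoord.{u} →+* Γ(T.left, ⊤) :=
  (gaIso.inv ≫ (gaSpecPt x).appTop).hom

theorem gaRingHom_gen (x : T ⟶ Red.Ga S) : gaRingHom x gaGen = Red.gaFn x := rfl

theorem ringHom_ext_gen {R : Type u} [CommRing R] {f g : GaCoord.{u} →+* R} (h : f gaGen = g gaGen) : f = g := by
  let _ : Algebra (ULift.{u} ℤ) R := ULift.algebra' ℤ R
  have huniq : ∀ k : GaCoord.{u} →+* R, ∀ r : ULift.{u} ℤ,
      k (algebraMap (ULift.{u} ℤ) GaCoord.{u} r) = algebraMap (ULift.{u} ℤ) R r := by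
    intro k r
    have : (k.comp (algebraMap (ULift.{u} ℤ) GaCoord.{u})).comp
        (ULift.ringEquiv : ULift.{u} ℤ ≃+* ℤ).symm.toRingHom =
        (algebraMap (ULift.{u} ℤ) R).comp (ULift.ringEquiv : ULift.{u} ℤ ≃+* ℤ).symm.toRingHom := RingHom.ext_int _ _
    exact DFunLike.congr_fun this r.down
  let f' : GaCoord.{u} →ₐ[ULift.{u} ℤ] R := { f with commutes' := huniq f }
  let g' : GaCoord.{u} →ₐ[ULift.{u} ℤ] R := { g with commutes' := huniq g }
  have : f' = g' := by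
    apply SymmetricAlgebra.algHom_ext
    apply LinearMap.ext_ring
    exact h
  exact congrArg (fun k : GaCoord.{u} →ₐ[ULift.{u} ℤ] R => k.toRingHom) this

/-- The ring map sending the generator to `a`. -/
def gaHomOfFn {R : Type u} [CommRing R] (a : R) : GaCoord.{u} →+* R :=
  letI : Algebra (ULift.{u} ℤ) R := ULift.algebra' ℤ R
  (SymmetricAlgebra.lift (LinearMap.toSpanSingleton (ULift.{u} ℤ) R a)).toRingHom

theorem gaHomOfFn_gen {R : Type u} [CommRing R] (a : R) : gaHomOfFn a gaGen = a := by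
  letI : Algebra (ULift.{u} ℤ) R := ULift.algebra' ℤ R
  change SymmetricAlgebra.lift (LinearMap.toSpanSingleton (ULift.{u} ℤ) R a) gaGen = a
  rw [SymmetricAlgebra.lift_ι_apply, LinearMap.toSpanSingleton_apply]
  exact one_smul _ a

/-- The point of a function. -/
def gaPt (a : Γ(T.left, ⊤)) : T ⟶ Red.Ga S :=
  Over.homMk (pullback.lift (ΓSpec.adjunction.homEquiv T.left (op (CommRingCat.of GaCoord.{u}))
    (CommRingCat.ofHom (gaHomOfFn a)).op) T.hom (specULiftZIsTerminal.hom_ext _ _)) (pullback.lift_snd _ _ _)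

theorem gaFn_gaPt (a : Γ(T.left, ⊤)) : Red.gaFn (gaPt a : T ⟶ Red.Ga S) = a := by
  have h : gaSpecPt (gaPt a : T ⟶ Red.Ga S) = ΓSpec.adjunction.homEquiv T.left (op (CommRingCat.of GaCoord.{u}))
      (CommRingCat.ofHom (gaHomOfFn a)).op := pullback.lift_fst _ _ _
  rw [← gaRingHom_gen, gaRingHom, h, ΓSpecIso_inv_ΓSpec_adjunction_homEquiv]
  exact gaHomOfFn_gen a

theorem gaFn_injective {x y : T ⟶ Red.Ga S} (h : Red.gaFn x = Red.gaFn y) : x = y := by
  ext1
  apply pullback.hom_ext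
  · apply (ΓSpec.adjunction.homEquiv T.left (op (CommRingCat.of GaCoord.{u}))).symm.injective
    rw [Adjunction.homEquiv_counit, Adjunction.homEquiv_counit, ΓSpec.adjunction_counit_app]
    apply Quiver.Hom.unop_inj
    apply CommRingCat.hom_ext
    exact ringHom_ext_gen h
  · exact (Over.w x).trans (Over.w y).symm

theorem gaFn_comp (g : T' ⟶ T) (x : T ⟶ Red.Ga S) : Red.gaFn (g ≫ x) = g.left.appTop (Red.gaFn x) := by
  rw [Red.gaFn, Red.gaFn, Over.comp_left, Category.assoc]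
  exact GmPts.appTop_comp_apply _ _ _

theorem specMap_appTop_gaIso_inv {R : CommRingCat.{u}} (φ : CommRingCat.of GaCoord.{u} ⟶ R) (c : GaCoord.{u}) :
    (Spec.map φ).appTop (gaIso.inv c) = (Scheme.ΓSpecIso R).inv (φ c) := by
  have h := congrArg (fun ψ => (ConcreteCategory.hom ψ) c) (Scheme.ΓSpecIso_inv_naturality φ)
  exact h.symm

theorem mul_appTop_gen : μ[Red.GaZ.{u}].left.appTop (gaIso.inv gaGen) =
    (pullback.fst Red.GaZ.hom Red.GaZ.hom).appTop (gaIso.inv gaGen) +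
      (pullback.snd Red.GaZ.hom Red.GaZ.hom).appTop (gaIso.inv gaGen) := by
  let iL : GaCoord.{u} →+* TensorProduct (ULift.{u} ℤ) GaCoord.{u} GaCoord.{u} := Algebra.TensorProduct.includeLeftRingHom
  let iR : GaCoord.{u} →+* TensorProduct (ULift.{u} ℤ) GaCoord.{u} GaCoord.{u} :=
    ((Algebra.TensorProduct.includeRight (R := ULift.{u} ℤ) (A := GaCoord.{u}) (B := GaCoord.{u}) :
      GaCoord.{u} →ₐ[ULift.{u} ℤ] TensorProduct (ULift.{u} ℤ) GaCoord.{u} GaCoord.{u}) : GaCoord.{u} →+* TensorProduct (ULift.{u} ℤ) GaCoord.{u} GaCoord.{u})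
  let fC : Spec (CommRingCat.of GaCoord.{u}) ⟶ GmPts.baseZ.{u} :=
    Spec.map (CommRingCat.ofHom (algebraMap (ULift.{u} ℤ) GaCoord.{u}))
  let psi := pullbackSpecIso (ULift.{u} ℤ) GaCoord.{u} GaCoord.{u}
  have hfst : pullback.fst fC fC = psi.hom ≫ Spec.map (CommRingCat.ofHom (R := GaCoord.{u}) (S := TensorProduct (ULift.{u} ℤ) GaCoord.{u} GaCoord.{u}) iL) := by
    rw [← pullbackSpecIso_inv_fst, Iso.hom_inv_id_assoc]
  have hsnd : pullback.snd fC fC = psi.hom ≫ Spec.map (CommRingCat.ofHom (R := GaCoord.{u}) (S := TensorProduct (ULift.{u} ℤ) GaCoord.{u} GaCoord.{u}) iR) := by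
    rw [← pullbackSpecIso_inv_snd, Iso.hom_inv_id_assoc]
  let cm : GaCoord.{u} →+* TensorProduct (ULift.{u} ℤ) GaCoord.{u} GaCoord.{u} :=
    (Bialgebra.comulAlgHom (ULift.{u} ℤ) GaCoord.{u}).toRingHom
  have hc : (CommRingCat.ofHom (R := GaCoord.{u}) (S := TensorProduct (ULift.{u} ℤ) GaCoord.{u} GaCoord.{u}) cm) gaGen.{u} =
      (CommRingCat.ofHom (R := GaCoord.{u}) (S := TensorProduct (ULift.{u} ℤ) GaCoord.{u} GaCoord.{u}) iL) gaGen.{u} +
        (CommRingCat.ofHom (R := GaCoord.{u}) (S := TensorProduct (ULift.{u} ℤ) GaCoord.{u} GaCoord.{u}) iR) gaGen.{u} :=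
    SymmetricAlgebra.comul_ι (ULift.{u} ℤ) (ULift.{u} ℤ) (ULift.up 1)
  change (psi.hom ≫ Spec.map (CommRingCat.ofHom (R := GaCoord.{u}) (S := TensorProduct (ULift.{u} ℤ) GaCoord.{u} GaCoord.{u}) cm)).appTop
      (gaIso.inv gaGen) =
    (pullback.fst fC fC).appTop (gaIso.inv gaGen) + (pullback.snd fC fC).appTop (gaIso.inv gaGen)
  rw [hfst, hsnd, GmPts.appTop_comp_apply, GmPts.appTop_comp_apply, GmPts.appTop_comp_apply,
    specMap_appTop_gaIso_inv, specMap_appTop_gaIso_inv, specMap_appTop_gaIso_inv, hc, map_add, map_add]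

theorem gaFn_mul (x y : T ⟶ Red.Ga S) : Red.gaFn (x * y) = Red.gaFn x + Red.gaFn y := by
  let pair : T.left ⟶ (Red.GaZ ⊗ Red.GaZ).left :=
    (lift x y).left ≫ (Functor.LaxMonoidal.μ (Over.pullback (GmPts.toBaseZ S)) Red.GaZ Red.GaZ).left ≫
      pullback.fst (Red.GaZ ⊗ Red.GaZ).hom (GmPts.toBaseZ S)
  have h0 : gaSpecPt (x * y) = pair ≫ μ[Red.GaZ].left := by
    have h1 : x * y = lift x y ≫ μ[Red.Ga S] := Hom.mul_def x y
    have h2 : μ[Red.Ga S] = Functor.LaxMonoidal.μ (Over.pullback (GmPts.toBaseZ S)) Red.GaZ Red.GaZ ≫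
        (Over.pullback (GmPts.toBaseZ S)).map μ[Red.GaZ] := rfl
    have h3 : ((Over.pullback (GmPts.toBaseZ S)).map μ[Red.GaZ]).left ≫
        pullback.fst Red.GaZ.hom (GmPts.toBaseZ S) =
        pullback.fst (Red.GaZ ⊗ Red.GaZ).hom (GmPts.toBaseZ S) ≫ μ[Red.GaZ].left :=
      GmPts_pullback_map_left_fst μ[Red.GaZ]
    rw [gaSpecPt, h1, h2, Over.comp_left, Over.comp_left]
    simp only [pair, Category.assoc]
    exact _ ≫= (_ ≫= h3)
  have hf : pair ≫ pullback.fst Red.GaZ.hom Red.GaZ.hom = gaSpecPt x := by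
    simp only [pair, Category.assoc]
    rw [Over.μ_pullback_left_fst_fst, ← Category.assoc]
    congr 1
    rw [← Over.fst_left, ← Over.comp_left, lift_fst]
  have hs : pair ≫ pullback.snd Red.GaZ.hom Red.GaZ.hom = gaSpecPt y := by
    simp only [pair, Category.assoc]
    rw [Over.μ_pullback_left_fst_snd, ← Category.assoc]
    congr 1
    rw [← Over.snd_left, ← Over.comp_left, lift_snd]
  have e1 : Red.gaFn (x * y) = pair.appTop (μ[Red.GaZ].left.appTop (gaIso.inv gaGen)) := by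
    change (gaSpecPt (x * y)).appTop (gaIso.inv gaGen) = _
    rw [h0]
    exact GmPts.appTop_comp_apply _ _ _
  rw [e1, mul_appTop_gen, map_add, ← GmPts.appTop_comp_apply, ← GmPts.appTop_comp_apply, hf, hs]
  rfl
where
  GmPts_pullback_map_left_fst {X Y : Over GmPts.baseZ.{u}} (g : X ⟶ Y) :
      ((Over.pullback (GmPts.toBaseZ S)).map g).left ≫ pullback.fst Y.hom (GmPts.toBaseZ S) =
        pullback.fst X.hom (GmPts.toBaseZ S) ≫ g.left := GmPts.pullback_map_left_fst g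

/-- Points of the additive group are functions. -/
def gaEquiv (T : Over S) : Multiplicative Γ(T.left, ⊤) ≃* (T ⟶ Red.Ga S) :=
  MulEquiv.symm
    { toFun := fun x => Multiplicative.ofAdd (Red.gaFn x)
      invFun := fun a => gaPt a.toAdd
      left_inv := fun x => gaFn_injective (gaFn_gaPt _)
      right_inv := fun a => congrArg Multiplicative.ofAdd (gaFn_gaPt _)
      map_mul' := fun x y => congrArg Multiplicative.ofAdd (gaFn_mul x y) }

theorem gaPt_add (a b : Γ(T.left, ⊤)) : (gaPt (a + b) : T ⟶ Red.Ga S) = gaPt a * gaPt b :=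
  gaFn_injective (by rw [gaFn_mul, gaFn_gaPt, gaFn_gaPt, gaFn_gaPt])

theorem gaFn_one : Red.gaFn (1 : T ⟶ Red.Ga S) = 0 := by
  have h := gaFn_mul (1 : T ⟶ Red.Ga S) 1
  have e : (1 : T ⟶ Red.Ga S) * 1 = 1 := _root_.one_mul (M := T ⟶ Red.Ga S) 1
  exact left_eq_add.mp (h.symm.trans (congrArg Red.gaFn e)).symm

theorem gaFn_inv (x : T ⟶ Red.Ga S) : Red.gaFn x⁻¹ = - Red.gaFn x := by
  apply eq_neg_of_add_eq_zero_left
  rw [← gaFn_mul, inv_mul_cancel, gaFn_one]

end

end GrothLib.RedPts
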