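import Groth.Agent.Lib.RedPts.LineLaw
import Groth.Prelude.Def_GmPts
import Mathlib.Algebra.Polynomial.Laurent
import Mathlib.RingTheory.Polynomial.Basic

/-!
Group laws on the punctured affine line over a field are translations of the multiplication.
-/

universe u

open CategoryTheory CategoryTheory.Limits MonoidalCategory CartesianMonoidalCategory MonObj
  AlgebraicGeometry Opposite

namespace GrothLib.RedPts

noncomputable section

open LaurentPolynomial

theorem laurent_unit_eq {D : Type u} [CommRing D] [IsDomain D] {u : D[T;T⁻¹]} (hu : IsUnit u) :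
    ∃ (d : D) (n : ℤ), IsUnit d ∧ u = C d * T n := by
  obtain ⟨v, hv⟩ := hu.exists_right_inv
  obtain ⟨n, f, hf⟩ := exists_T_pow u
  obtain ⟨m, g, hg⟩ := exists_T_pow v
  have hfg : f * g = Polynomial.X ^ (n + m) := by
    apply Polynomial.toLaurent_injective
    rw [map_mul, hf, hg, Polynomial.toLaurent_X_pow, _root_.mul_mul_mul_comm, hv, _root_.one_mul, ← T_add]
    simp
  obtain ⟨i, -, hi⟩ := (dvd_prime_pow Polynomial.prime_X (n + m)).mp ⟨g, hfg.symm⟩
  obtain ⟨w, hw⟩ := hi.symm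
  obtain ⟨d, hd, hwd⟩ := Polynomial.isUnit_iff.mp w.isUnit
  refine ⟨d, (i : ℤ) - n, hd, ?_⟩
  apply (isUnit_T (R := D) n).mul_left_inj.mp
  rw [← hf, _root_.mul_assoc (C d), ← T_add, sub_add_cancel, ← hw, ← hwd, map_mul,
    Polynomial.toLaurent_C, Polynomial.toLaurent_X_pow]
  exact mul_comm _ _

theorem laurent_C_mul_T_inj {D : Type u} [CommRing D] [Nontrivial D] {d : D} (hd : IsUnit d)
    {n : ℤ} (h : C d * T n = (T 1 : D[T;T⁻¹])) : d = 1 ∧ n = 1 := by
  rw [← single_eq_C_mul_T, T] at h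
  rcases AddMonoidAlgebra.single_inj.mp h with ⟨h1, h2⟩ | ⟨h1, h2⟩
  · exact ⟨h2, h1⟩
  · exact absurd h2 one_ne_zero

variable {k : Type u} [Field k]

theorem exists_gm_law
    (m : Red.Gm (Spec (CommRingCat.of k)) ⊗ Red.Gm (Spec (CommRingCat.of k)) ⟶
      Red.Gm (Spec (CommRingCat.of k))) :
    ∃ (c : k) (a b : ℤ), IsUnit c ∧ ∀ (T : Over (Spec (CommRingCat.of k)))
      (p q : T ⟶ Red.Gm (Spec (CommRingCat.of k))),
      Red.gmFn (lift p q ≫ m) =
        scal T c * ((GmPts.unitOfPt p ^ a : (Γ(T.left, ⊤))ˣ) : Γ(T.left, ⊤)) *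
          ((GmPts.unitOfPt q ^ b : (Γ(T.left, ⊤))ˣ) : Γ(T.left, ⊤)) := by
  let φ : k →+* k[T;T⁻¹][T;T⁻¹] := (C : k[T;T⁻¹] →+* k[T;T⁻¹][T;T⁻¹]).comp C
  let io := Scheme.ΓSpecIso (CommRingCat.of k[T;T⁻¹][T;T⁻¹])
  let ux : (Γ((specOver φ).left, ⊤))ˣ :=
    Units.map io.inv.hom.toMonoidHom (isUnit_T (R := k[T;T⁻¹]) 1).unit
  let uy : (Γ((specOver φ).left, ⊤))ˣ :=
    Units.map io.inv.hom.toMonoidHom ((isUnit_T (R := k) 1).map C).unit
  let xh : specOver φ ⟶ Red.Gm (Spec (CommRingCat.of k)) := GmPts.ptOfUnit ux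
  let yh : specOver φ ⟶ Red.Gm (Spec (CommRingCat.of k)) := GmPts.ptOfUnit uy
  have hu : IsUnit (io.hom.hom (Red.gmFn (lift xh yh ≫ m))) := (GmPts.isUnit_gmFn (lift xh yh ≫ m)).map io.hom.hom
  obtain ⟨d, a, hd, hu1⟩ := laurent_unit_eq hu
  obtain ⟨c, b, hc, rfl⟩ := laurent_unit_eq hd
  refine ⟨c, a, b, hc, fun T p q => ?_⟩
  let ψ : k[T;T⁻¹][T;T⁻¹] →+* Γ(T.left, ⊤) :=
    eval₂ (eval₂ (scal T) (GmPts.unitOfPt q)) (GmPts.unitOfPt p)
  have hψ : ψ.comp φ = scal T := by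
    ext r
    simp [ψ, φ]
  obtain ⟨g, hg⟩ := exists_over_hom φ T ψ hψ
  have hp : g ≫ xh = p := GmPts.gmFn_injective (by
    change Red.gmFn (g ≫ xh) = Red.gmFn p
    rw [GmPts.gmFn_comp, GmPts.gmFn_ptOfUnit]
    exact (hg (LaurentPolynomial.T 1)).trans (by simp [ψ, GmPts.val_unitOfPt]))
  have hq : g ≫ yh = q := GmPts.gmFn_injective (by
    change Red.gmFn (g ≫ yh) = Red.gmFn q
    rw [GmPts.gmFn_comp, GmPts.gmFn_ptOfUnit]
    exact (hg (C (LaurentPolynomial.T 1))).trans (by simp [ψ, GmPts.val_unitOfPt]))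
  rw [← hp, ← hq, ← comp_lift, Category.assoc, GmPts.gmFn_comp, hp, hq]
  have h1 : Red.gmFn (lift xh yh ≫ m) = io.inv.hom (C (C c * LaurentPolynomial.T b) * LaurentPolynomial.T a) := by
    rw [← hu1]
    exact (congrArg (fun χ => (ConcreteCategory.hom χ) (Red.gmFn (lift xh yh ≫ m)))
      io.hom_inv_id).symm
  rw [h1]
  refine (hg _).trans ?_
  simp only [ψ, map_mul, eval₂_C, eval₂_T]
  ring

theorem gm_mul_eq (h : GrpObj (Red.Gm (Spec (CommRingCat.of k))))
    {W : Over (Spec (CommRingCat.of k))} (p q : W ⟶ Red.Gm (Spec (CommRingCat.of k))) :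
    scal W ((Scheme.ΓSpecIso (CommRingCat.of k)).hom (Red.gmFn h.one)) *
      Red.gmFn (lift p q ≫ h.mul) = Red.gmFn p * Red.gmFn q := by
  obtain ⟨c, a, b, hc, hF⟩ := exists_gm_law h.mul
  let e : k := (Scheme.ΓSpecIso (CommRingCat.of k)).hom (Red.gmFn h.one)
  have he : IsUnit e := (GmPts.isUnit_gmFn h.one).map _
  let φ : k →+* k[T;T⁻¹] := C
  let io := Scheme.ΓSpecIso (CommRingCat.of k[T;T⁻¹])
  let σ : Γ((specOver φ).left, ⊤) →+* k[T;T⁻¹] := io.hom.hom
  have hσ : σ.comp (scal (specOver φ)) = C := by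
    apply RingHom.ext
    intro r
    rw [RingHom.comp_apply, scal_specOver]
    exact congrArg (fun χ => (ConcreteCategory.hom χ) (φ r)) io.inv_hom_id
  have honeFn : ∀ S : Over (Spec (CommRingCat.of k)),
      Red.gmFn (toUnit S ≫ h.one) = scal S e := by
    intro S
    rw [GmPts.gmFn_comp]
    exact pt_one_fn (T := S) (Red.gmFn h.one)
  let ux : (Γ((specOver φ).left, ⊤))ˣ :=
    Units.map io.inv.hom.toMonoidHom (isUnit_T (R := k) 1).unit
  let x : specOver φ ⟶ Red.Gm (Spec (CommRingCat.of k)) := GmPts.ptOfUnit ux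
  have hx : σ (Red.gmFn x) = T 1 := by
    rw [GmPts.gmFn_ptOfUnit]
    exact congrArg (fun χ => (ConcreteCategory.hom χ) (LaurentPolynomial.T 1 : k[T;T⁻¹])) io.inv_hom_id
  have hxz : ∀ n : ℤ, σ ((GmPts.unitOfPt x ^ n : (Γ((specOver φ).left, ⊤))ˣ) :
      Γ((specOver φ).left, ⊤)) = T n := by
    intro n
    have hxu : Units.map (σ : _ →* k[T;T⁻¹]) (GmPts.unitOfPt x) = (isUnit_T (R := k) 1).unit :=
      Units.ext hx
    have h2 := congrArg Units.val (map_zpow (Units.map (σ : _ →* k[T;T⁻¹])) (GmPts.unitOfPt x) n)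
    rw [hxu] at h2
    refine h2.trans ?_
    clear h2
    induction n using Int.induction_on with
    | zero => simp [T_zero]
    | succ i hi => rw [zpow_add_one, Units.val_mul, hi]; exact (T_add _ _).symm
    | pred i hi =>
      rw [← (isUnit_T (R := k) 1).mul_left_inj]
      have e2 := congrArg Units.val (zpow_sub_one (isUnit_T (R := k) 1).unit (-(i : ℤ)))
      rw [e2, Units.val_mul, _root_.mul_assoc]
      change _ * (_ * ((isUnit_T (R := k) 1).unit : k[T;T⁻¹])) = _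
      rw [Units.inv_mul, _root_.mul_one, hi, ← T_add, sub_add_cancel]
  let eu : kˣ := he.unit
  have hone : GmPts.unitOfPt (toUnit (specOver φ) ≫ h.one) =
      Units.map (scal (specOver φ) : k →* _) eu := Units.ext (honeFn (specOver φ))
  have hez : ∀ n : ℤ, σ ((GmPts.unitOfPt (toUnit (specOver φ) ≫ h.one) ^ n :
      (Γ((specOver φ).left, ⊤))ˣ) : Γ((specOver φ).left, ⊤)) = C ((eu ^ n : kˣ) : k) := by
    intro n
    rw [hone, ← map_zpow]
    exact RingHom.congr_fun hσ _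
  have hsc : ∀ r : k, σ (scal (specOver φ) r) = C r := fun r => RingHom.congr_fun hσ r
  have hr := congrArg σ (hF (specOver φ) x (toUnit (specOver φ) ≫ h.one))
  rw [pts_mul_one h, map_mul, map_mul, hx, hxz, hez, hsc,
    show C c * T a * C ((eu ^ b : kˣ) : k) = C (c * ((eu ^ b : kˣ) : k)) * T a by
      rw [map_mul]; ring] at hr
  obtain ⟨hce, ha⟩ := laurent_C_mul_T_inj (hc.mul (Units.isUnit _)) hr.symm
  have hl := congrArg σ (hF (specOver φ) (toUnit (specOver φ) ≫ h.one) x)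
  rw [pts_one_mul h, map_mul, map_mul, hx, hxz, hez, hsc, ← map_mul] at hl
  obtain ⟨-, hb⟩ := laurent_C_mul_T_inj (hc.mul (Units.isUnit _)) hl.symm
  subst ha hb
  rw [zpow_one] at hce
  rw [hF W p q, zpow_one, zpow_one, ← _root_.mul_assoc, ← _root_.mul_assoc, ← map_mul, mul_comm _ c]
  change scal W (c * (eu : k)) * _ * _ = _
  rw [hce, map_one, _root_.one_mul]
  rfl

end

end GrothLib.RedPts
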