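import Groth.Agent.Lib.RedPts.Ga
import Mathlib.AlgebraicGeometry.AffineScheme
import Mathlib.Algebra.Polynomial.Eval.Degree
import Mathlib.Algebra.Polynomial.Degree.Lemmas

/-!
Group laws on the affine line over a field are translations of the addition.
-/

universe u

open CategoryTheory CategoryTheory.Limits MonoidalCategory CartesianMonoidalCategory MonObj
  AlgebraicGeometry Opposite

namespace GrothLib.RedPts

noncomputable section

section group

variable {C : Type*} [Category C] [CartesianMonoidalCategory C] {X : C} (h : GrpObj X)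

theorem pts_assoc {T : C} (a b c : T ⟶ X) :
    lift (lift a b ≫ h.mul) c ≫ h.mul = lift a (lift b c ≫ h.mul) ≫ h.mul := by
  letI := h
  simpa only [Hom.mul_def] using _root_.mul_assoc a b c

theorem pts_mul_one {T : C} (a : T ⟶ X) : lift a (toUnit T ≫ h.one) ≫ h.mul = a := by
  letI := h
  simpa only [Hom.mul_def, Hom.one_def] using _root_.mul_one a

theorem pts_one_mul {T : C} (a : T ⟶ X) : lift (toUnit T ≫ h.one) a ≫ h.mul = a := by
  letI := h
  simpa only [Hom.mul_def, Hom.one_def] using _root_.one_mul a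

theorem pts_inv {T : C} (a : T ⟶ X) : ∃ b : T ⟶ X, lift a b ≫ h.mul = toUnit T ≫ h.one := by
  letI := h
  exact ⟨a⁻¹, by simpa only [Hom.mul_def, Hom.one_def] using mul_inv_cancel a⟩

end group

variable {k : Type u} [CommRing k]

/-- The scalars in the global functions of a scheme over `Spec k`. -/
def scal (T : Over (Spec (CommRingCat.of k))) : k →+* Γ(T.left, ⊤) :=
  ((Scheme.ΓSpecIso (CommRingCat.of k)).inv ≫ T.hom.appTop).hom

theorem appTop_scal {T T' : Over (Spec (CommRingCat.of k))} (g : T' ⟶ T) :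
    g.left.appTop.hom.comp (scal T) = scal T' := by
  rw [scal, scal, ← Over.w g, Scheme.Hom.comp_appTop]
  rfl

/-- The affine test object of a ring over `k`. -/
def specOver {R : Type u} [CommRing R] (φ : k →+* R) : Over (Spec (CommRingCat.of k)) :=
  Over.mk (Spec.map (CommRingCat.ofHom φ))

theorem scal_specOver {R : Type u} [CommRing R] (φ : k →+* R) :
    scal (specOver φ) = (Scheme.ΓSpecIso (CommRingCat.of R)).inv.hom.comp φ := by
  apply RingHom.ext
  intro c
  exact (congrArg (fun ψ => (ConcreteCategory.hom ψ) c)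
    (Scheme.ΓSpecIso_inv_naturality (CommRingCat.ofHom φ))).symm

theorem exists_over_hom {R : Type u} [CommRing R] (φ : k →+* R)
    (T : Over (Spec (CommRingCat.of k))) (ψ : R →+* Γ(T.left, ⊤)) (hψ : ψ.comp φ = scal T) :
    ∃ g : T ⟶ specOver φ, ∀ r : R,
      g.left.appTop ((Scheme.ΓSpecIso (CommRingCat.of R)).inv r) = ψ r := by
  let g₀ : T.left ⟶ Spec (CommRingCat.of R) := T.left.toSpecΓ ≫ Spec.map (CommRingCat.ofHom ψ)
  have hg : ∀ r : R, g₀.appTop ((Scheme.ΓSpecIso (CommRingCat.of R)).inv r) = ψ r := by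
    intro r
    rw [Scheme.Hom.comp_appTop, Scheme.toSpecΓ_appTop]
    change (Scheme.ΓSpecIso Γ(T.left, ⊤)).hom
      ((Spec.map (CommRingCat.ofHom ψ)).appTop ((Scheme.ΓSpecIso (CommRingCat.of R)).inv r)) = _
    have h1 : (Spec.map (CommRingCat.ofHom ψ)).appTop ((Scheme.ΓSpecIso (CommRingCat.of R)).inv r) =
        (Scheme.ΓSpecIso Γ(T.left, ⊤)).inv (ψ r) :=
      (congrArg (fun χ => (ConcreteCategory.hom χ) r)
        (Scheme.ΓSpecIso_inv_naturality (CommRingCat.ofHom ψ))).symm
    rw [h1]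
    exact congrArg (fun χ => (ConcreteCategory.hom χ) (ψ r)) (Scheme.ΓSpecIso Γ(T.left, ⊤)).inv_hom_id
  refine ⟨Over.homMk g₀ (ext_of_isAffine ?_), hg⟩
  apply (cancel_epi (Scheme.ΓSpecIso (CommRingCat.of k)).inv).mp
  ext c
  have := congrArg (fun f => f c) hψ
  refine Eq.trans ?_ this
  rw [RingHom.comp_apply, ← hg]
  change g₀.appTop ((Spec.map (CommRingCat.ofHom φ)).appTop _) = _
  congr 1
  exact (congrArg (fun χ => (ConcreteCategory.hom χ) c)
    (Scheme.ΓSpecIso_inv_naturality (CommRingCat.ofHom φ))).symm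

theorem pt_one_fn {T : Over (Spec (CommRingCat.of k))}
    (a : Γ(Spec (CommRingCat.of k), ⊤)) :
    (toUnit T).left.appTop a = scal T ((Scheme.ΓSpecIso (CommRingCat.of k)).hom a) := by
  have h : (Scheme.ΓSpecIso (CommRingCat.of k)).inv ((Scheme.ΓSpecIso (CommRingCat.of k)).hom a) = a :=
    congrArg (fun χ => (ConcreteCategory.hom χ) a) (Scheme.ΓSpecIso (CommRingCat.of k)).hom_inv_id
  conv_lhs => rw [← h]
  rw [Over.toUnit_left]
  rfl

open Polynomial

/-- Value of a bivariate polynomial at a pair of elements of a `k`-ring. -/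
def evP (F : k[X][X]) {R : Type u} [CommRing R] (φ : k →+* R) (a b : R) : R :=
  Polynomial.eval₂ (Polynomial.eval₂RingHom φ b) a F

theorem map_evP (F : k[X][X]) {R R' : Type u} [CommRing R] [CommRing R'] (φ : k →+* R)
    (σ : R →+* R') (a b : R) : σ (evP F φ a b) = evP F (σ.comp φ) (σ a) (σ b) := by
  rw [evP, evP, Polynomial.hom_eval₂]
  congr 1
  apply Polynomial.ringHom_ext <;> simp

theorem exists_law (m : Red.Ga (Spec (CommRingCat.of k)) ⊗ Red.Ga (Spec (CommRingCat.of k)) ⟶
      Red.Ga (Spec (CommRingCat.of k))) :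
    ∃ F : k[X][X], ∀ (T : Over (Spec (CommRingCat.of k)))
      (p q : T ⟶ Red.Ga (Spec (CommRingCat.of k))),
      Red.gaFn (lift p q ≫ m) = evP F (scal T) (Red.gaFn p) (Red.gaFn q) := by
  let φ : k →+* k[X][X] := (C : k[X] →+* k[X][X]).comp (C : k →+* k[X])
  let io := Scheme.ΓSpecIso (CommRingCat.of k[X][X])
  let xh : specOver φ ⟶ Red.Ga (Spec (CommRingCat.of k)) := gaPt (io.inv X)
  let yh : specOver φ ⟶ Red.Ga (Spec (CommRingCat.of k)) := gaPt (io.inv (C X))
  refine ⟨io.hom (Red.gaFn (lift xh yh ≫ m)), fun T p q => ?_⟩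
  let ψ : k[X][X] →+* Γ(T.left, ⊤) :=
    eval₂RingHom (eval₂RingHom (scal T) (Red.gaFn q)) (Red.gaFn p)
  have hψ : ψ.comp φ = scal T := by
    ext c
    simp [ψ, φ]
  obtain ⟨g, hg⟩ := exists_over_hom φ T ψ hψ
  have hp : g ≫ xh = p := gaFn_injective (by
    rw [gaFn_comp, gaFn_gaPt]
    exact (hg X).trans (by simp [ψ]))
  have hq : g ≫ yh = q := gaFn_injective (by
    rw [gaFn_comp, gaFn_gaPt]
    exact (hg (C X)).trans (by simp [ψ]))
  rw [← hp, ← hq, ← comp_lift, Category.assoc, gaFn_comp, hp, hq]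
  change _ = ψ (io.hom (Red.gaFn (lift xh yh ≫ m)))
  rw [← hg]
  congr 1
  exact (congrArg (fun χ => (ConcreteCategory.hom χ) (Red.gaFn (lift xh yh ≫ m))) io.hom_inv_id).symm

/-- The identities satisfied by a bivariate polynomial defining a group law with unit `e`. -/
structure IsLaw (F : k[X][X]) (e : k) : Prop where
  assoc : ∀ {R : Type u} [CommRing R] (φ : k →+* R) (a b c : R),
    evP F φ (evP F φ a b) c = evP F φ a (evP F φ b c)
  evP_unit : ∀ {R : Type u} [CommRing R] (φ : k →+* R) (a : R), evP F φ a (φ e) = a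
  unit_evP : ∀ {R : Type u} [CommRing R] (φ : k →+* R) (a : R), evP F φ (φ e) a = a

theorem IsLaw.flip {F : k[X][X]} {e : k} (hF : IsLaw F e) :
    ∃ F' : k[X][X], IsLaw F' e ∧
      ∀ {R : Type u} [CommRing R] (φ : k →+* R) (a b : R), evP F φ b a = evP F' φ a b := by
  let φ₀ : k →+* k[X][X] := (C : k[X] →+* k[X][X]).comp (C : k →+* k[X])
  let F' : k[X][X] := evP F φ₀ (C X) X
  have key : ∀ {R : Type u} [CommRing R] (φ : k →+* R) (a b : R),
      evP F φ b a = evP F' φ a b := by
    intro R _ φ a b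
    change _ = eval₂RingHom (eval₂RingHom φ b) a (evP F φ₀ (C X) X)
    rw [map_evP]
    congr 1
    · ext c
      simp [φ₀]
    · simp
    · simp
  refine ⟨F', ⟨fun φ a b c => ?_, fun φ a => ?_, fun φ a => ?_⟩, key⟩
  · simp only [← key]
    exact (hF.assoc φ c b a).symm
  · rw [← key]
    exact hF.unit_evP φ a
  · rw [← key]
    exact hF.evP_unit φ a

theorem IsLaw.natDegree_le [IsDomain k] {F : k[X][X]} {e : k} (hF : IsLaw F e) :
    F.natDegree ≤ 1 := by
  let φ : k →+* k[X][X] := (C : k[X] →+* k[X][X]).comp (C : k →+* k[X])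
  let φ' : k →+* k[X][X][X] := (C : k[X][X] →+* k[X][X][X]).comp φ
  have key : ∀ (w : k[X][X]) (q : k[X][X][X]),
      evP F φ' q (C w) = (F.map (eval₂RingHom φ w)).comp q := by
    intro w q
    rw [evP, Polynomial.comp, eval₂_map]
    congr 1
    apply Polynomial.ringHom_ext <;> simp [φ']
  have keyX : ∀ w : k[X][X], evP F φ' X (C w) = F.map (eval₂RingHom φ w) := fun w => by
    rw [key, comp_X]
  have hy : eval₂RingHom φ (X : k[X][X]) = mapRingHom (C : k →+* k[X]) := by
    apply Polynomial.ringHom_ext <;> simp [φ]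
  have hz : eval₂RingHom φ (C X : k[X][X]) = (C : k[X] →+* k[X][X]) := by
    apply Polynomial.ringHom_ext <;> simp [φ]
  have h := hF.assoc (R := k[X][X][X]) φ' X (C X) (C (C X))
  have hC : evP F φ' (C (X : k[X][X])) (C (C X : k[X][X])) = C (evP F φ (X : k[X][X]) (C X)) :=
    (map_evP F φ (R := k[X][X]) (R' := k[X][X][X]) (Polynomial.C (R := k[X][X])) X (C X)).symm
  rw [keyX, key, hC, keyX, hy, hz] at h
  have h2 := congrArg natDegree h
  rw [natDegree_comp, natDegree_map_eq_of_injective C_injective,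
    natDegree_map_eq_of_injective
      (f := mapRingHom (C : k →+* k[X])) (Polynomial.map_injective _ C_injective)] at h2
  have h3 := h2.trans_le (natDegree_map_le (p := F))
  by_contra hn
  have : F.natDegree * 2 ≤ F.natDegree * F.natDegree := Nat.mul_le_mul_left _ (by omega)
  omega

theorem IsLaw.exists_linear [IsDomain k] {F : k[X][X]} {e : k} (hF : IsLaw F e) :
    ∃ A : k[X], ∀ {R : Type u} [CommRing R] (φ : k →+* R) (a b : R),
      evP F φ a b = eval₂ φ b A * (a - φ e) + b := by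
  obtain ⟨A, B, rfl⟩ := exists_eq_X_add_C_of_natDegree_le_one hF.natDegree_le
  refine ⟨A, fun {R} _ φ a b => ?_⟩
  have h := hF.unit_evP φ b
  simp only [evP, eval₂_add, eval₂_mul, eval₂_C, eval₂_X, coe_eval₂RingHom] at h ⊢
  linear_combination h

theorem IsLaw.evP_eq {k : Type u} [Field k] {F : k[X][X]} {e : k} (hF : IsLaw F e)
    (hinv : ∀ a : k, ∃ b : k, evP F (RingHom.id k) a b = e)
    {R : Type u} [CommRing R] (φ : k →+* R) (a b : R) :
    evP F φ a b = a + b - φ e := by
  obtain ⟨F', hF', hflip⟩ := hF.flip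
  obtain ⟨A, hA⟩ := hF.exists_linear
  obtain ⟨A', hA'⟩ := hF'.exists_linear
  let c : k := eval (e + 1) A' - 1
  have main : ∀ {R : Type u} [CommRing R] (φ : k →+* R) (a b : R),
      evP F φ a b = φ c * (a - φ e) * (b - φ e) + a + b - φ e := by
    intro R _ φ a b
    have h1 := hA φ (φ (e + 1)) b
    have h2 := hA' φ b (φ (e + 1))
    rw [← hflip, eval₂_at_apply] at h2
    rw [h2] at h1
    simp only [map_add, map_one] at h1
    rw [hA φ a b, show φ c = φ (eval (e + 1) A') - 1 by simp [c]]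
    linear_combination -(a - φ e) * h1
  have hc : c = 0 := by
    by_contra hc
    obtain ⟨b', hb⟩ := hinv (e - 1 / c)
    rw [main] at hb
    simp only [RingHom.id_apply] at hb
    field_simp at hb
    apply one_ne_zero (α := k)
    linear_combination -hb
  rw [main, hc]
  simp

theorem gaFn_toUnit_one {T : Over (Spec (CommRingCat.of k))}
    (o : 𝟙_ (Over (Spec (CommRingCat.of k))) ⟶ Red.Ga (Spec (CommRingCat.of k))) :
    Red.gaFn (toUnit T ≫ o) =
      scal T ((Scheme.ΓSpecIso (CommRingCat.of k)).hom (Red.gaFn o)) := by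
  rw [gaFn_comp]
  exact pt_one_fn (T := T) (Red.gaFn o)

theorem gaFn_mul_eq {k : Type u} [Field k] (h : GrpObj (Red.Ga (Spec (CommRingCat.of k))))
    {T : Over (Spec (CommRingCat.of k))} (p q : T ⟶ Red.Ga (Spec (CommRingCat.of k))) :
    Red.gaFn (lift p q ≫ h.mul) = Red.gaFn p + Red.gaFn q -
      scal T ((Scheme.ΓSpecIso (CommRingCat.of k)).hom (Red.gaFn h.one)) := by
  obtain ⟨F, hF⟩ := exists_law h.mul
  let e : k := (Scheme.ΓSpecIso (CommRingCat.of k)).hom (Red.gaFn h.one)
  have hσ : ∀ {R : Type u} [CommRing R] (φ : k →+* R),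
      (Scheme.ΓSpecIso (CommRingCat.of R)).hom.hom.comp (scal (specOver φ)) = φ := by
    intro R _ φ
    ext c
    rw [RingHom.comp_apply, scal_specOver]
    exact congrArg (fun χ => (ConcreteCategory.hom χ) (φ c))
      (Scheme.ΓSpecIso (CommRingCat.of R)).inv_hom_id
  have hop : ∀ {R : Type u} [CommRing R] (φ : k →+* R)
      (x y : specOver φ ⟶ Red.Ga (Spec (CommRingCat.of k))),
      (Scheme.ΓSpecIso (CommRingCat.of R)).hom.hom (Red.gaFn (lift x y ≫ h.mul)) =
        evP F φ ((Scheme.ΓSpecIso (CommRingCat.of R)).hom.hom (Red.gaFn x))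
          ((Scheme.ΓSpecIso (CommRingCat.of R)).hom.hom (Red.gaFn y)) := by
    intro R _ φ x y
    rw [hF]
    refine (map_evP (R := Γ((specOver φ).left, ⊤)) F (scal (specOver φ))
      (Scheme.ΓSpecIso (CommRingCat.of R)).hom.hom (Red.gaFn x) (Red.gaFn y)).trans ?_
    exact congrArg (fun χ => evP F χ _ _) (hσ φ)
  have hsurj : ∀ {R : Type u} [CommRing R] (φ : k →+* R) (r : R),
      ∃ x : specOver φ ⟶ Red.Ga (Spec (CommRingCat.of k)),
        (Scheme.ΓSpecIso (CommRingCat.of R)).hom.hom (Red.gaFn x) = r := by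
    intro R _ φ r
    refine ⟨gaPt ((Scheme.ΓSpecIso (CommRingCat.of R)).inv r), ?_⟩
    rw [gaFn_gaPt]
    exact congrArg (fun χ => (ConcreteCategory.hom χ) r)
      (Scheme.ΓSpecIso (CommRingCat.of R)).inv_hom_id
  have hunit : ∀ {R : Type u} [CommRing R] (φ : k →+* R),
      (Scheme.ΓSpecIso (CommRingCat.of R)).hom.hom
        (Red.gaFn (toUnit (specOver φ) ≫ h.one)) = φ e := by
    intro R _ φ
    rw [gaFn_toUnit_one]
    exact RingHom.congr_fun (hσ φ) e
  have hlaw : IsLaw F e := by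
    refine ⟨fun φ a b c => ?_, fun φ a => ?_, fun φ a => ?_⟩
    · obtain ⟨x, rfl⟩ := hsurj φ a
      obtain ⟨y, rfl⟩ := hsurj φ b
      obtain ⟨z, rfl⟩ := hsurj φ c
      rw [← hop φ x y, ← hop, ← hop φ y z, ← hop, pts_assoc h]
    · obtain ⟨x, rfl⟩ := hsurj φ a
      rw [← hunit φ, ← hop, pts_mul_one h]
    · obtain ⟨x, rfl⟩ := hsurj φ a
      rw [← hunit φ, ← hop, pts_one_mul h]
  have hinv : ∀ a : k, ∃ b : k, evP F (RingHom.id k) a b = e := by
    intro a
    obtain ⟨x, rfl⟩ := hsurj (RingHom.id k) a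
    obtain ⟨y, hy⟩ := pts_inv h x
    refine ⟨(Scheme.ΓSpecIso (CommRingCat.of k)).hom.hom (Red.gaFn y), ?_⟩
    rw [← hop (RingHom.id k) x y, hy, hunit]
    rfl
  rw [hF, hlaw.evP_eq hinv]

end

end GrothLib.RedPts
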